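import Mathlib.RingTheory.MvPowerSeries.Basic
import Mathlib.Data.Nat.Choose.Basic
import Mathlib.Data.Finset.Powerset
import Mathlib.Data.Finset.Lattice.Fold
import Mathlib.Algebra.Order.BigOperators.Ring.Finset
import Mathlib.Tactic.Linarith
import Mathlib.Tactic.Ring

/-!
# Support of the Hodge number generating series of complete intersections
-/

set_option autoImplicit false

open MvPowerSeries Finset

namespace HodgeCILib

/-- Power series in two variables. -/
abbrev S2 := MvPowerSeries (Fin 2) ℤ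

/-- The exponent `(p, q)`. -/
noncomputable def e (p q : ℕ) : Fin 2 →₀ ℕ := Finsupp.single 0 p + Finsupp.single 1 q

/-- The coefficient at `(p, q)`. -/
noncomputable def c (f : S2) (p q : ℕ) : ℤ := coeff (e p q) f

theorem e_zero (p q : ℕ) : e p q 0 = p := by simp [e]
theorem e_one (p q : ℕ) : e p q 1 = q := by simp [e]

theorem e_eta (n : Fin 2 →₀ ℕ) : e (n 0) (n 1) = n := by
  ext i
  fin_cases i
  · exact e_zero _ _
  · exact e_one _ _

theorem e_add (p q p' q' : ℕ) : e p q + e p' q' = e (p + p') (q + q') := by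
  simp only [e, Finsupp.single_add]; abel

theorem c_mul_term (b u v : ℕ) (f : S2) (p q : ℕ) :
    c ((b : S2) * X 0 ^ u * X 1 ^ v * f) p q = if u ≤ p ∧ v ≤ q then (b : ℤ) * c f (p - u) (q - v) else 0 := by
  have h1 : (b : S2) * X 0 ^ u * X 1 ^ v = monomial (e u v) (b : ℤ) := by
    rw [← map_natCast (MvPowerSeries.C (σ := Fin 2) (R := ℤ)) b, ← monomial_zero_eq_C_apply, X_pow_eq, X_pow_eq,
      monomial_mul_monomial, monomial_mul_monomial]
    simp [e]
  rw [h1, c, coeff_monomial_mul]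
  have hle : e u v ≤ e p q ↔ u ≤ p ∧ v ≤ q := by
    constructor
    · exact fun h => ⟨by simpa [e_zero] using h 0, by simpa [e_one] using h 1⟩
    · intro h i
      fin_cases i <;> simp [e_zero, e_one, h.1, h.2]
  by_cases h : u ≤ p ∧ v ≤ q
  · rw [if_pos (hle.2 h), if_pos h, c]
    congr
    rw [← e_eta (e p q - e u v)]
    simp [Finsupp.tsub_apply, e_zero, e_one]
  · rw [if_neg (fun h' => h (hle.1 h')), if_neg h]

theorem c_term (b u v p q : ℕ) :
    c ((b : S2) * X 0 ^ u * X 1 ^ v) p q = if u = p ∧ v = q then (b : ℤ) else 0 := by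
  have h := c_mul_term b u v 1 p q
  rw [mul_one] at h
  rw [h]
  have : ∀ i j, c (1 : S2) i j = if i = 0 ∧ j = 0 then 1 else 0 := fun i j => by
    rw [c, coeff_one]
    refine if_congr ⟨fun h => ⟨by simpa [e_zero] using DFunLike.congr_fun h 0,
      by simpa [e_one] using DFunLike.congr_fun h 1⟩, fun h => by simp [e, h.1, h.2]⟩ rfl rfl
  rw [this]
  split_ifs <;> simp_all <;> omega

/-- Nonnegativity of all coefficients. -/
def Pos (f : S2) : Prop := ∀ p q, 0 ≤ c f p q

/-- Nonvanishing of a coefficient. -/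
def Sup (f : S2) (p q : ℕ) : Prop := c f p q ≠ 0

theorem pos_mul {f g : S2} (hf : Pos f) (hg : Pos g) : Pos (f * g) := fun p q => by
  classical
  rw [c, coeff_mul]
  refine sum_nonneg fun x _ => mul_nonneg ?_ ?_
  · rw [← e_eta x.1]; exact hf _ _
  · rw [← e_eta x.2]; exact hg _ _

theorem sup_mul {f g : S2} (hf : Pos f) (hg : Pos g) {p q p' q' : ℕ} (h : Sup f p q) (h' : Sup g p' q') :
    Sup (f * g) (p + p') (q + q') := by
  classical
  refine ne_of_gt ?_
  rw [c, coeff_mul]
  have hmem : (e p q, e p' q') ∈ Finset.antidiagonal (e (p + p') (q + q')) :=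
    Finset.mem_antidiagonal.2 (e_add _ _ _ _)
  refine lt_of_lt_of_le (mul_pos (lt_of_le_of_ne (hf p q) (Ne.symm h)) (lt_of_le_of_ne (hg p' q') (Ne.symm h')))
    (single_le_sum (f := fun x : (Fin 2 →₀ ℕ) × (Fin 2 →₀ ℕ) => coeff x.1 f * coeff x.2 g) (fun x _ => mul_nonneg ?_ ?_) hmem)
  · rw [← e_eta x.1]; exact hf _ _
  · rw [← e_eta x.2]; exact hg _ _

theorem sup_mul_inv {f g : S2} {p q : ℕ} (h : Sup (f * g) p q) :
    ∃ a b a' b', a + a' = p ∧ b + b' = q ∧ Sup f a b ∧ Sup g a' b' := by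
  classical
  by_contra! hne
  refine h ?_
  rw [c, coeff_mul]
  refine sum_eq_zero fun x hx => ?_
  rw [Finset.mem_antidiagonal] at hx
  by_cases h0 : coeff x.1 f = 0
  · rw [h0, zero_mul]
  · have := hne (x.1 0) (x.1 1) (x.2 0) (x.2 1) (by rw [← Finsupp.add_apply, hx, e_zero])
      (by rw [← Finsupp.add_apply, hx, e_one]) (by rw [Sup, c, e_eta]; exact h0)
    rw [Sup, c, e_eta, not_not] at this
    rw [this, mul_zero]

theorem pos_one : Pos 1 := fun p q => by
  rw [c, coeff_one]; split_ifs <;> simp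

theorem sup_one {p q : ℕ} : Sup 1 p q ↔ p = 0 ∧ q = 0 := by
  rw [Sup, c, coeff_one]
  constructor
  · intro h
    split_ifs at h with h1
    · exact ⟨by simpa [e_zero] using DFunLike.congr_fun h1 0, by simpa [e_one] using DFunLike.congr_fun h1 1⟩
    · simp at h
  · rintro ⟨rfl, rfl⟩; simp [e]

/-- The quadratic part. -/
noncomputable def Pser (b : ℕ) : S2 := ∑ u ∈ Finset.range (b + 1), ∑ v ∈ Finset.range (b + 1),
  if 1 ≤ u ∧ 1 ≤ v ∧ u + v ≤ b then (b.choose (u + v) : S2) * X 0 ^ u * X 1 ^ v else 0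

/-- The numerator. -/
noncomputable def Nser (b : ℕ) : S2 := ∑ u ∈ Finset.range b, ∑ v ∈ Finset.range b,
  if u + v + 1 ≤ b - 1 then ((b - 1).choose (u + v + 1) : S2) * X 0 ^ u * X 1 ^ v else 0

theorem c_Nser (b p q : ℕ) :
    c (Nser b) p q = if p + q + 1 ≤ b - 1 then ((b - 1).choose (p + q + 1) : ℤ) else 0 := by
  rw [Nser, c, map_sum]
  simp only [map_sum]
  have hterm : ∀ u v, coeff (e p q) (if u + v + 1 ≤ b - 1 then ((b - 1).choose (u + v + 1) : S2) * X 0 ^ u * X 1 ^ v else 0) =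
      if u = p ∧ v = q ∧ p + q + 1 ≤ b - 1 then ((b - 1).choose (p + q + 1) : ℤ) else 0 := by
    intro u v
    split_ifs with h1 h2 h2
    · obtain ⟨rfl, rfl, -⟩ := h2; exact (c_term _ _ _ _ _).trans (if_pos ⟨rfl, rfl⟩)
    · exact (c_term _ _ _ _ _).trans (if_neg fun (h : u = p ∧ v = q) => h2 ⟨h.1, h.2, h.1 ▸ h.2 ▸ h1⟩)
    · obtain ⟨rfl, rfl, h3⟩ := h2; exact absurd h3 h1
    · exact map_zero _
  simp only [hterm]
  split_ifs with h
  · rw [sum_eq_single p, sum_eq_single q]
    · simp [h]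
    all_goals simp +contextual [Finset.mem_range] <;> omega
  · exact sum_eq_zero fun u _ => sum_eq_zero fun v _ => if_neg fun h' => h h'.2.2

theorem c_Pser_mul (b : ℕ) (f : S2) (p q : ℕ) :
    c (Pser b * f) p q = ∑ u ∈ Finset.range (b + 1), ∑ v ∈ Finset.range (b + 1),
      if 1 ≤ u ∧ 1 ≤ v ∧ u + v ≤ b ∧ u ≤ p ∧ v ≤ q then (b.choose (u + v) : ℤ) * c f (p - u) (q - v) else 0 := by
  rw [Pser, c, sum_mul, map_sum]
  refine sum_congr rfl fun u _ => ?_
  rw [sum_mul, map_sum]
  refine sum_congr rfl fun v _ => ?_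
  by_cases h1 : 1 ≤ u ∧ 1 ≤ v ∧ u + v ≤ b
  · rw [if_pos h1]
    refine (c_mul_term _ u v f p q).trans (if_congr ?_ rfl rfl)
    exact ⟨fun h => ⟨h1.1, h1.2.1, h1.2.2, h⟩, fun h => h.2.2.2⟩
  · rw [if_neg h1, zero_mul, map_zero, if_neg (fun h : 1 ≤ u ∧ 1 ≤ v ∧ u + v ≤ b ∧ u ≤ p ∧ v ≤ q => h1 ⟨h.1, h.2.1, h.2.2.1⟩)]

section Hyp

variable {b : ℕ} {H : S2} (hH : (1 - Pser b) * H = Nser b)
include hH

theorem c_H (p q : ℕ) : c H p q = c (Nser b) p q + c (Pser b * H) p q := by
  have : H = Nser b + Pser b * H := by rw [← hH]; ring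
  conv_lhs => rw [this]
  rw [c, map_add]; rfl

theorem pos_H : Pos H := by
  intro p
  induction p using Nat.strong_induction_on with
  | _ p ih =>
    intro q
    rw [c_H hH, c_Nser, c_Pser_mul]
    refine add_nonneg (by split_ifs <;> simp) (sum_nonneg fun u _ => sum_nonneg fun v _ => ?_)
    split_ifs with h
    · exact mul_nonneg (by simp) (ih _ (by omega) _)
    · rfl

theorem sup_H_bound : ∀ p q, Sup H p q → p + q + 2 ≤ (p + 1) * b := by
  intro p
  induction p using Nat.strong_induction_on with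
  | _ p ih =>
    intro q hpq
    by_contra hlt
    refine hpq ?_
    rw [c_H hH, c_Nser, c_Pser_mul]
    rw [if_neg (by intro h; have : b ≤ (p + 1) * b := Nat.le_mul_of_pos_left b (by omega); omega), zero_add]
    refine sum_eq_zero fun u _ => sum_eq_zero fun v _ => ?_
    split_ifs with h
    · by_cases h0 : c H (p - u) (q - v) = 0
      · rw [h0, mul_zero]
      · exfalso
        have h1 := ih (p - u) (by omega) (q - v) h0
        have h2 : (p - u + 1) * b + b ≤ (p + 1) * b := by
          rw [← Nat.succ_mul]; exact Nat.mul_le_mul_right b (by omega)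
        omega
    · rfl

theorem sup_H : ∀ p q, p ≤ q → p + q + 2 ≤ (p + 1) * b → Sup H p q := by
  intro p
  induction p with
  | zero =>
    intro q _ hq
    refine ne_of_gt ?_
    rw [c_H hH, c_Nser, if_pos (by simp at hq; omega)]
    refine add_pos_of_pos_of_nonneg (by exact_mod_cast Nat.choose_pos (by simp at hq; omega)) ?_
    exact (pos_mul (fun i j => by
      rw [show c (Pser b) i j = c (Pser b * 1) i j by rw [mul_one], c_Pser_mul]
      exact sum_nonneg fun u _ => sum_nonneg fun v _ => by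
        split_ifs
        · exact mul_nonneg (by simp) (pos_one _ _)
        · rfl) (pos_H hH)) _ _
  | succ p ih =>
    intro q hpq hq
    have hb : 2 ≤ b := by
      by_contra hb
      have : (p + 1 + 1) * b ≤ p + 1 + 1 := by simpa using Nat.mul_le_mul_left (p + 1 + 1) (show b ≤ 1 by omega)
      omega
    have hmul : (p + 1 + 1) * b = (p + 1) * b + b := by ring
    have hlow : 2 * p + 2 ≤ (p + 1) * b :=
      le_trans (by omega) (Nat.mul_le_mul_left (p + 1) hb)
    set v := max 1 (q - ((p + 1) * b - p - 2)) with hv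
    refine ne_of_gt ?_
    rw [c_H hH, c_Pser_mul]
    refine add_pos_of_nonneg_of_pos (by rw [c_Nser]; split_ifs <;> simp) ?_
    have hnn : ∀ u w, 0 ≤ (if 1 ≤ u ∧ 1 ≤ w ∧ u + w ≤ b ∧ u ≤ p + 1 ∧ w ≤ q then
        (b.choose (u + w) : ℤ) * c H (p + 1 - u) (q - w) else 0) := fun u w => by
      split_ifs
      · exact mul_nonneg (by simp) (pos_H hH _ _)
      · rfl
    refine sum_pos' (fun u _ => sum_nonneg fun w _ => hnn u w) ⟨1, by simp; omega, ?_⟩
    refine sum_pos' (fun w _ => hnn 1 w) ⟨v, by simp; omega, ?_⟩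
    rw [if_pos (by omega)]
    refine mul_pos (by exact_mod_cast Nat.choose_pos (by omega)) ?_
    rw [show p + 1 - 1 = p by omega]
    exact lt_of_le_of_ne (pos_H hH _ _) (Ne.symm (ih (q - v) (by omega) (by omega)))

end Hyp

section Prod

variable {d : ℕ} {a : Fin d → ℕ} {Hs : Fin d → S2} (hH : ∀ i, (1 - Pser (a i)) * Hs i = Nser (a i))
include hH

theorem pos_prod (P : Finset (Fin d)) : Pos (∏ i ∈ P, Hs i) := by
  classical
  induction P using Finset.induction with
  | empty => simpa using pos_one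
  | insert i P hi ih => rw [prod_insert hi]; exact pos_mul (pos_H (hH i)) ih

theorem prod_bound (M : ℕ) (hM : ∀ i, a i ≤ M) (P : Finset (Fin d)) :
    ∀ p q, Sup (∏ i ∈ P, Hs i) p q → p + q + 2 * P.card ≤ ∑ i ∈ P, a i + p * M := by
  classical
  induction P using Finset.induction with
  | empty => intro p q h; rw [prod_empty, sup_one] at h; simp [h.1, h.2]
  | insert i P hi ih =>
    intro p q h
    rw [prod_insert hi] at h
    obtain ⟨x, y, x', y', rfl, rfl, h1, h2⟩ := sup_mul_inv h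
    have e1 := sup_H_bound (hH i) x y h1
    have e2 := ih x' y' h2
    have e3 : (x + 1) * a i ≤ x * M + a i := by
      rw [add_mul, one_mul]; exact Nat.add_le_add_right (Nat.mul_le_mul_left x (hM i)) _
    rw [sum_insert hi, card_insert_of_notMem hi, add_mul]
    omega

theorem sup_prod_zero (P : Finset (Fin d)) (hP : ∀ i ∈ P, 2 ≤ a i) :
    ∀ q, q + 2 * P.card ≤ ∑ i ∈ P, a i → Sup (∏ i ∈ P, Hs i) 0 q := by
  classical
  induction P using Finset.induction with
  | empty => intro q hq; simp at hq; subst hq; simp [sup_one]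
  | insert i P hi ih =>
    intro q hq
    rw [sum_insert hi, card_insert_of_notMem hi] at hq
    have h2 := hP i (mem_insert_self i P)
    have h3 : ∀ j ∈ P, 2 ≤ a j := fun j hj => hP j (mem_insert_of_mem hj)
    have h4 : 2 * P.card ≤ ∑ j ∈ P, a j := by
      simpa [mul_comm] using Finset.card_nsmul_le_sum P a 2 h3
    rw [prod_insert hi]
    set r := min q (∑ j ∈ P, a j - 2 * P.card) with hr
    have := sup_mul (pos_H (hH i)) (pos_prod hH P) (sup_H (hH i) 0 (q - r) (Nat.zero_le _) (by simp; omega))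
      (ih h3 r (by omega))
    rwa [zero_add, Nat.sub_add_cancel (by omega)] at this

end Prod

/-- The factor `(1 + y) (1 + z)`. -/
noncomputable def E : S2 := (1 + X 0) * (1 + X 1)

theorem pos_E : Pos E ∧ (∀ p q, Sup E p q → q ≤ 1) ∧ Sup E 0 0 ∧ Sup E 0 1 := by
  have hc : ∀ p q, c E p q = c (((1 : ℕ) : S2) * X 0 ^ 0 * X 1 ^ 0) p q + c (((1 : ℕ) : S2) * X 0 ^ 1 * X 1 ^ 0) p q +
      (c (((1 : ℕ) : S2) * X 0 ^ 0 * X 1 ^ 1) p q + c (((1 : ℕ) : S2) * X 0 ^ 1 * X 1 ^ 1) p q) := fun p q => by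
    simp only [c, ← map_add]
    congr 1
    rw [E]; push_cast; ring
  simp only [c_term] at hc
  refine ⟨fun p q => ?_, fun p q h => ?_, ?_, ?_⟩
  · rw [hc]; split_ifs <;> simp
  · by_contra hq
    refine h ?_
    rw [hc, if_neg, if_neg, if_neg, if_neg] <;> simp <;> omega
  · rw [Sup, hc]; simp
  · rw [Sup, hc]; simp

theorem pos_pow : ∀ m, Pos (E ^ m) ∧ (∀ p q, Sup (E ^ m) p q → q ≤ m) ∧ ∀ q ≤ m, Sup (E ^ m) 0 q := by
  intro m
  induction m with
  | zero =>
    rw [pow_zero]
    exact ⟨pos_one, fun p q h => (sup_one.1 h).2.le, fun q hq => sup_one.2 ⟨rfl, by omega⟩⟩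
  | succ m ih =>
    obtain ⟨h1, h2, h3⟩ := ih
    obtain ⟨g1, g2, g3, g4⟩ := pos_E
    rw [pow_succ]
    refine ⟨pos_mul h1 g1, fun p q h => ?_, fun q hq => ?_⟩
    · obtain ⟨x, y, x', y', -, rfl, a1, a2⟩ := sup_mul_inv h
      have := h2 _ _ a1; have := g2 _ _ a2; omega
    · rcases Nat.lt_or_ge q (m + 1) with hlt | hge
      · simpa using sup_mul h1 g1 (h3 q (by omega)) g3
      · have := sup_mul h1 g1 (h3 m le_rfl) g4
        rwa [show q = m + 1 by omega]

theorem main {d : ℕ} (a : Fin d → ℕ) (ha : ∀ i, 1 ≤ a i) (Hs : Fin d → S2)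
    (hH : ∀ i, (1 - Pser (a i)) * Hs i = Nser (a i)) (p q : ℕ) (hpq : p ≤ q) :
    c (∑ P ∈ (Finset.univ : Finset (Fin d)).powerset with P.Nonempty, E ^ (P.card - 1) * ∏ i ∈ P, Hs i) p q ≠ 0 ↔
      p + q + d < p * Finset.univ.sup a + ∑ i, a i := by
  classical
  set M := Finset.univ.sup a with hM
  have hMi : ∀ i, a i ≤ M := fun i => Finset.le_sup (Finset.mem_univ i)
  have hterm : ∀ P : Finset (Fin d), Pos (E ^ (P.card - 1) * ∏ i ∈ P, Hs i) := fun P =>
    pos_mul (pos_pow _).1 (pos_prod hH P)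
  rw [c, map_sum]
  constructor
  · intro h
    obtain ⟨P, hP, hne⟩ := exists_ne_zero_of_sum_ne_zero h
    rw [Finset.mem_filter] at hP
    obtain ⟨x, y, x', y', rfl, rfl, h1, h2⟩ := sup_mul_inv (f := E ^ (P.card - 1)) hne
    have e1 := (pos_pow _).2.1 x y h1
    have e2 := prod_bound hH M hMi P x' y' h2
    have hM1 : x ≤ x * M := by
      obtain ⟨i, hi⟩ := hP.2
      exact Nat.le_mul_of_pos_right x (lt_of_lt_of_le (ha i) (hMi i))
    have hc : 1 ≤ P.card := Finset.card_pos.2 hP.2
    have e3 : ∑ i ∈ P, a i + (d - P.card) ≤ ∑ i, a i := by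
      rw [← Finset.sum_add_sum_compl P a]
      refine Nat.add_le_add_left ?_ _
      have := Finset.card_nsmul_le_sum Pᶜ a 1 fun i _ => ha i
      simpa [Finset.card_compl] using this
    have e4 : P.card ≤ d := by simpa using P.card_le_univ
    rw [add_mul]
    omega
  · intro hlt
    set P : Finset (Fin d) := Finset.univ.filter fun i => 2 ≤ a i with hP
    have e1 : ∑ i, a i = ∑ i ∈ P, a i + (d - P.card) := by
      rw [← Finset.sum_add_sum_compl P a]
      congr 1
      rw [Finset.sum_congr rfl (g := fun _ => 1) fun i hi => by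
        have := ha i
        simp [hP] at hi; omega]
      simp [Finset.card_compl]
    have e2 : P.card ≤ d := by simpa using P.card_le_univ
    have hPne : P.Nonempty := by
      rw [Finset.nonempty_iff_ne_empty]
      intro h0
      rw [h0, Finset.sum_empty, Finset.card_empty] at e1
      have hM1 : M ≤ 1 := Finset.sup_le fun i _ => by
        by_contra hi
        have : i ∈ P := by simp [hP]; omega
        simp [h0] at this
      have : p * M ≤ p := by simpa using Nat.mul_le_mul_left p hM1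
      omega
    obtain ⟨i0, hi0, hmax⟩ := P.exists_max_image a hPne
    have hai0 : 2 ≤ a i0 := by simpa [hP] using hi0
    have hMeq : a i0 = M := le_antisymm (hMi i0) (Finset.sup_le fun i _ => by
      by_cases hi : i ∈ P
      · exact hmax i hi
      · simp [hP] at hi; omega)
    have hge : ∀ j ∈ P.erase i0, 2 ≤ a j := fun j hj => by
      have := Finset.mem_of_mem_erase hj
      simpa [hP] using this
    have e3 : ∑ i ∈ P, a i = a i0 + ∑ i ∈ P.erase i0, a i := (Finset.add_sum_erase P a hi0).symm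
    have e4 : P.card = (P.erase i0).card + 1 := (Finset.card_erase_add_one hi0).symm
    have e5 : 2 * (P.erase i0).card ≤ ∑ i ∈ P.erase i0, a i := by
      simpa [mul_comm] using Finset.card_nsmul_le_sum (P.erase i0) a 2 hge
    set K := ∑ i ∈ P.erase i0, a i - 2 * (P.erase i0).card
    have hpM : 2 * p + 2 ≤ (p + 1) * a i0 := le_trans (by omega) (Nat.mul_le_mul_left (p + 1) hai0)
    have hexp : (p + 1) * a i0 = p * M + a i0 := by rw [add_mul, one_mul, hMeq]
    set q0 := max p (q - (K + (P.card - 1))) with hq0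
    set r := min (q - q0) K with hr
    have s1 : Sup (Hs i0) p q0 := sup_H (hH i0) p q0 (le_max_left _ _) (by omega)
    have s2 : Sup (∏ i ∈ P.erase i0, Hs i) 0 r := sup_prod_zero hH _ hge r (by omega)
    have s3 : Sup (E ^ (P.card - 1)) 0 (q - q0 - r) := (pos_pow _).2.2 _ (by omega)
    have s := sup_mul (pos_pow _).1 (pos_mul (pos_H (hH i0)) (pos_prod hH _)) s3
      (sup_mul (pos_H (hH i0)) (pos_prod hH _) s1 s2)
    rw [Finset.mul_prod_erase P Hs hi0, zero_add, add_zero, show q - q0 - r + (q0 + r) = q by omega] at s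
    refine ne_of_gt (sum_pos' (fun Q _ => hterm Q p q) ⟨P, by simp [hPne], ?_⟩)
    exact lt_of_le_of_ne (hterm P p q) (Ne.symm s)

end HodgeCILib
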