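import Mathlib.Algebra.MvPolynomial.CommRing
import Mathlib.Algebra.Ring.GeomSum
import Mathlib.Data.Nat.Choose.Sum
import Mathlib.Tactic.Ring
import Mathlib.Tactic.LinearCombination

/-!
# The algebraic identity behind the hypersurface Hodge series
-/

set_option autoImplicit false

open Finset

namespace HodgeCILib

variable {R : Type*} [CommRing R] (y z : R)

theorem pow_sub_pow_eq (b n : ℕ) (hn : b ≤ n) (g : ℕ → R) :
    (y - z) * ∑ i ∈ range n, ∑ j ∈ range n, (if i + j + 1 ≤ b then g (i + j + 1) * y ^ i * z ^ j else 0) =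
      ∑ k ∈ range b, g (k + 1) * (y ^ (k + 1) - z ^ (k + 1)) := by
  classical
  have h1 : ∑ i ∈ range n, ∑ j ∈ range n, (if i + j + 1 ≤ b then g (i + j + 1) * y ^ i * z ^ j else 0) =
      ∑ k ∈ range b, ∑ i ∈ range (k + 1), g (k + 1) * y ^ i * z ^ (k - i) := by
    rw [← sum_product', ← sum_filter, sum_sigma']
    refine sum_bij (fun x _ => ⟨x.1 + x.2, x.1⟩) ?_ ?_ ?_ ?_
    · intro x hx; simp only [mem_filter, mem_product, mem_range] at hx; simp; omega
    · intro x _ x' _ h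
      simp only [Sigma.mk.injEq, heq_eq_eq] at h
      exact Prod.ext h.2 (by omega)
    · rintro ⟨k, i⟩ h
      simp only [mem_sigma, mem_range] at h
      refine ⟨(i, k - i), by simp [mem_filter]; omega, ?_⟩
      simp only [Sigma.mk.injEq, heq_eq_eq, and_true]
      omega
    · intro x _
      simp
  rw [h1, mul_sum]
  refine sum_congr rfl fun k _ => ?_
  rw [show ∑ i ∈ range (k + 1), g (k + 1) * y ^ i * z ^ (k - i) =
    g (k + 1) * ∑ i ∈ range (k + 1), y ^ i * z ^ (k + 1 - 1 - i) by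
      rw [mul_sum]; refine sum_congr rfl fun i _ => ?_; rw [Nat.add_sub_cancel, mul_assoc],
    mul_left_comm, mul_comm (y - z), geom_sum₂_mul]

theorem one_add_pow_sub (b : ℕ) :
    (1 + y) ^ b - (1 + z) ^ b = ∑ k ∈ range b, (b.choose (k + 1) : R) * (y ^ (k + 1) - z ^ (k + 1)) := by
  rw [add_comm 1 y, add_comm 1 z, add_pow, add_pow, ← sum_sub_distrib, sum_range_succ']
  simp only [pow_zero, Nat.choose_zero_right, sub_self, add_zero, one_pow, mul_one, one_mul]
  refine sum_congr rfl fun k _ => ?_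
  ring

theorem first_identity (a : ℕ) :
    (1 + y) ^ (a - 1) - (1 + z) ^ (a - 1) =
      (y - z) * ∑ i ∈ range a, ∑ j ∈ range a,
        if i + j + 1 ≤ a - 1 then ((a - 1).choose (i + j + 1) : R) * y ^ i * z ^ j else 0 := by
  rw [pow_sub_pow_eq y z (a - 1) a (by omega) (fun k => ((a - 1).choose k : R)), one_add_pow_sub]

theorem second_identity (a : ℕ) (ha : 1 ≤ a) :
    (1 + y) ^ a * z - (1 + z) ^ a * y =
      (y - z) * (-1 + ∑ i ∈ range (a + 1), ∑ j ∈ range (a + 1),
        if 1 ≤ i ∧ 1 ≤ j ∧ i + j ≤ a then (a.choose (i + j) : R) * y ^ i * z ^ j else 0) := by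
  obtain ⟨b, rfl⟩ : ∃ b, a = b + 1 := ⟨a - 1, by omega⟩
  have h1 : ∑ i ∈ range (b + 1 + 1), ∑ j ∈ range (b + 1 + 1),
      (if 1 ≤ i ∧ 1 ≤ j ∧ i + j ≤ b + 1 then ((b + 1).choose (i + j) : R) * y ^ i * z ^ j else 0) =
      y * z * ∑ i ∈ range (b + 1), ∑ j ∈ range (b + 1),
        (if i + j + 1 ≤ b then ((b + 1).choose (i + j + 1 + 1) : R) * y ^ i * z ^ j else 0) := by
    rw [sum_range_succ', show (∑ j ∈ range (b + 1 + 1),
      (if 1 ≤ 0 ∧ 1 ≤ j ∧ 0 + j ≤ b + 1 then ((b + 1).choose (0 + j) : R) * y ^ 0 * z ^ j else 0)) = 0 from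
      sum_eq_zero fun j _ => if_neg fun h => absurd h.1 (by omega), add_zero, mul_sum]
    refine sum_congr rfl fun i _ => ?_
    rw [sum_range_succ', if_neg (by omega : ¬(1 ≤ i + 1 ∧ 1 ≤ 0 ∧ i + 1 + 0 ≤ b + 1)), add_zero, mul_sum]
    refine sum_congr rfl fun j _ => ?_
    by_cases h : i + j + 1 ≤ b
    · rw [if_pos (by omega), if_pos h, show i + 1 + (j + 1) = i + j + 1 + 1 by omega]; ring
    · rw [if_neg (by omega), if_neg h, mul_zero]
  have h2 : ∀ w : R, (1 + w) ^ (b + 1) = 1 + w * (((b + 1).choose 1 : R) +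
      ∑ k ∈ range b, ((b + 1).choose (k + 2) : R) * w ^ (k + 1)) := by
    intro w
    rw [add_comm 1 w, add_pow, sum_range_succ', sum_range_succ', mul_add, mul_sum]
    simp only [pow_zero, Nat.choose_zero_right, one_pow, Nat.cast_one, mul_one, zero_add, pow_one]
    rw [show (∑ k ∈ range b, w ^ (k + 1 + 1) * ((b + 1).choose (k + 1 + 1) : R)) =
      ∑ k ∈ range b, w * (((b + 1).choose (k + 2) : R) * w ^ (k + 1)) from sum_congr rfl fun k _ => by ring]
    ring
  have h3 := pow_sub_pow_eq y z b (b + 1) (by omega) (fun k => ((b + 1).choose (k + 1) : R))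
  simp only [mul_sub, sum_sub_distrib] at h3
  rw [h1, h2 y, h2 z]
  linear_combination (norm := ring) -(y * z) * h3

end HodgeCILib
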